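/-
helper7: project BT (S2154, Borel–Tits; helper35's sheet notes/helper35_BT_modules.lean.txt), module BT-[ROOT-A]:
`om_simple`, `om_neg_simple`, `sy_sy`, `om_sy` (stub statements verbatim, namespace `Cfsg.Agent.Lib.Helper35.BT`).
-/
import Cfsg.Agent.Lib.Helper35.BT.Defs
import Cfsg.Agent.Lib.Helper18.BN6

set_option autoImplicit false

namespace Cfsg.Agent.Lib.Helper7.BT

/-- the algebra behind `om_sy`: `Σ (r_k - [k = i] a)(y_k - A_k y_i) = Σ r_k y_k` when `a = Σ r_k A_k`, `A_i = 2`. -/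
theorem sum_refl_aux {n : ℕ} (r A y : Fin n → ℝ) (i : Fin n) (a : ℝ)
    (ha : a = ∑ k, r k * A k) (hA : A i = 2) :
    ∑ k, (r k - if k = i then a else 0) * (y k - A k * y i) = ∑ k, r k * y k := by
  have h1 : ∀ k, (r k - if k = i then a else 0) * (y k - A k * y i)
      = r k * y k - (r k * A k) * y i - (if k = i then a * (y k - A k * y i) else 0) := by
    intro k
    by_cases hk : k = i
    · rw [if_pos hk, if_pos hk]; ring
    · rw [if_neg hk, if_neg hk]; ring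
  rw [Finset.sum_congr rfl (fun k _ => h1 k), Finset.sum_sub_distrib, Finset.sum_sub_distrib,
    Finset.sum_ite_eq' Finset.univ i, if_pos (Finset.mem_univ i), ← Finset.sum_mul, ← ha, hA]
  ring

end Cfsg.Agent.Lib.Helper7.BT

namespace Cfsg.Agent.Lib.Helper35.BT

open Cfsg Cfsg.Lie Cfsg.Agent.Lib.Helper18 Cfsg.Agent.Lib.Helper61.ChevJ Matrix

universe u

variable {D : ChevalleyDatum}

theorem om_simple (Bd : BTData.{u} D) (y : Y D) (i : Fin D.rank) : om Bd.X y (D.simple i) = y i := by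
  unfold om rv
  rw [Finset.sum_eq_single i]
  · rw [Bd.hsimple i i.2 i i.2, if_pos rfl]; simp
  · intro k _ hk
    rw [Bd.hsimple i i.2 k k.2, if_neg (fun h => hk (Fin.ext h))]; simp
  · intro h; exact absurd (Finset.mem_univ i) h

theorem om_neg_simple (Bd : BTData.{u} D) (y : Y D) (i : Fin D.rank) :
    om Bd.X y (D.neg (D.simple i)) = - y i := by
  have hp : D.simple i < D.nroots := Bd.X.C.simple_lt i i.2
  have e : D.neg (D.simple i) = D.reflectRoot i (D.simple i) := by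
    rw [Bd.X.C.w_eq_reflectRoot i _ i.2 hp, Cfsg.Agent.Lib.Helper18.w_simple Bd.X.C i i.2, Bd.X.C.neg_eq _ hp]
  rw [e]
  unfold om rv
  rw [Finset.sum_eq_single i]
  · rw [Bd.hrefl i i.2 _ hp i i.2, Bd.hsimple i i.2 i i.2, if_pos rfl, if_pos rfl, Bd.hself i i.2]
    push_cast; ring
  · intro k _ hk
    have hne : ¬ ((k : ℕ) = (i : ℕ)) := fun h => hk (Fin.ext h)
    rw [Bd.hrefl i i.2 _ hp k k.2, Bd.hsimple i i.2 k k.2, if_neg hne, if_neg hne]; simp
  · intro h; exact absurd (Finset.mem_univ i) h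

theorem sy_sy (Bd : BTData.{u} D) (i : ℕ) (y : Y D) : sy i (sy i y) = y := by
  unfold sy
  by_cases hi : i < D.rank
  · rw [dif_pos hi, dif_pos hi]
    funext k
    have h2 := Bd.hself i hi
    have h2' : (D.cartan i (D.simple (⟨i, hi⟩ : Fin D.rank)) : ℝ) = 2 := by
      have : D.cartan i (D.simple ((⟨i, hi⟩ : Fin D.rank) : ℕ)) = 2 := h2
      rw [this]; norm_num
    simp only []
    rw [h2']
    ring
  · rw [dif_neg hi, dif_neg hi]

theorem om_sy (Bd : BTData.{u} D) (i : ℕ) (hi : i < D.rank) (y : Y D) (s : ℕ) (hs : s < D.nroots) :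
    om Bd.X (sy i y) (D.reflectRoot i s) = om Bd.X y s := by
  unfold om rv sy
  rw [dif_pos hi]
  have h1 : ∀ k : Fin D.rank,
      ((rcAt Bd.X.rcT Bd.X.C.T.rank (D.reflectRoot i s) k : ℤ) : ℝ)
        = (rcAt Bd.X.rcT Bd.X.C.T.rank s k : ℝ)
          - if k = (⟨i, hi⟩ : Fin D.rank) then (D.cartan i s : ℝ) else 0 := by
    intro k
    rw [Bd.hrefl i hi s hs k k.2]
    by_cases hk : (k : ℕ) = i
    · rw [if_pos hk, if_pos (Fin.ext hk)]; push_cast; ring
    · rw [if_neg hk, if_neg (fun h => hk (congrArg Fin.val h))]; push_cast; ring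
  have h2 : (D.cartan i s : ℝ)
      = ∑ k : Fin D.rank, (rcAt Bd.X.rcT Bd.X.C.T.rank s k : ℝ) * (D.cartan i (D.simple k) : ℝ) := by
    rw [Bd.hcartan i hi s hs]
    push_cast
    rw [Fin.sum_univ_eq_sum_range
      (fun k => ((rcAt Bd.X.rcT Bd.X.C.T.rank s k : ℤ) : ℝ) * ((D.cartan i (D.simple k) : ℤ) : ℝ)) D.rank]
  have h3 : (D.cartan i (D.simple ((⟨i, hi⟩ : Fin D.rank) : ℕ)) : ℝ) = 2 := by
    have : D.cartan i (D.simple ((⟨i, hi⟩ : Fin D.rank) : ℕ)) = 2 := Bd.hself i hi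
    rw [this]; norm_num
  rw [Finset.sum_congr rfl (fun k _ => by rw [h1 k])]
  exact Cfsg.Agent.Lib.Helper7.BT.sum_refl_aux
    (fun k => (rcAt Bd.X.rcT Bd.X.C.T.rank s k : ℝ)) (fun k => (D.cartan i (D.simple k) : ℝ)) y ⟨i, hi⟩
    (D.cartan i s : ℝ) h2 h3

end Cfsg.Agent.Lib.Helper35.BT
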