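/-
helper7: project BT (S2154, Borel–Tits; helper35's sheet), module BT-[Q-INV]:
`Q_sy`, `Q_wy` (stub statements verbatim, namespace `Cfsg.Agent.Lib.Helper35.BT`).
-/
import Cfsg.Agent.Lib.Helper35.BT.Defs
import Cfsg.Agent.Lib.Helper7.BT.RootA

set_option autoImplicit false

namespace Cfsg.Agent.Lib.Helper35.BT

open Cfsg Cfsg.Lie Cfsg.Agent.Lib.Helper18 Cfsg.Agent.Lib.Helper61.ChevJ Matrix

universe u

variable {D : ChevalleyDatum}

theorem Q_sy (Bd : BTData.{u} D) (i : ℕ) (y : Y D) : Q Bd.X (sy i y) = Q Bd.X y := by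
  by_cases hi : i < D.rank
  · unfold Q
    symm
    apply Finset.sum_nbij' (fun s => D.reflectRoot i s) (fun s => D.reflectRoot i s)
    · intro s hs
      rw [Finset.mem_range] at hs ⊢
      rw [Bd.X.C.w_eq_reflectRoot i s hi hs]
      exact Bd.X.C.w_lt i s hi hs
    · intro s hs
      rw [Finset.mem_range] at hs ⊢
      rw [Bd.X.C.w_eq_reflectRoot i s hi hs]
      exact Bd.X.C.w_lt i s hi hs
    · intro s hs
      rw [Finset.mem_range] at hs
      show D.reflectRoot i (D.reflectRoot i s) = s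
      rw [Bd.X.C.w_eq_reflectRoot i s hi hs,
        Bd.X.C.w_eq_reflectRoot i _ hi (Bd.X.C.w_lt i s hi hs)]
      exact Bd.X.C.w_w i s hi hs
    · intro s hs
      rw [Finset.mem_range] at hs
      show D.reflectRoot i (D.reflectRoot i s) = s
      rw [Bd.X.C.w_eq_reflectRoot i s hi hs,
        Bd.X.C.w_eq_reflectRoot i _ hi (Bd.X.C.w_lt i s hi hs)]
      exact Bd.X.C.w_w i s hi hs
    · intro s hs
      rw [Finset.mem_range] at hs
      show om Bd.X y s ^ 2 = om Bd.X (sy i y) (D.reflectRoot i s) ^ 2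
      rw [om_sy Bd i hi y s hs]
  · have : sy i y = y := by
      unfold sy
      rw [dif_neg hi]
    rw [this]

theorem Q_wy (Bd : BTData.{u} D) (ws : List ℕ) (y : Y D) : Q Bd.X (wy ws y) = Q Bd.X y := by
  induction ws with
  | nil => rw [wy_nil]
  | cons i ws ih => rw [wy_cons, Q_sy, ih]

end Cfsg.Agent.Lib.Helper35.BT
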