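/-
helper7: project BT (S2154, Borel–Tits; helper35's sheet), module BT-[DOM]:
`exists_dom_aux` (hedge; the official name `exists_dom` was landed first by helper34/helper35, so it is NOT declared here):
every `y` has a dominant conjugate.
Induction on the number of positive roots on which `y` is negative.
-/
import Cfsg.Agent.Lib.Helper35.BT.Defs
import Cfsg.Agent.Lib.Helper7.BT.RootA

set_option autoImplicit false

namespace Cfsg.Agent.Lib.Helper7.BT

open Cfsg Cfsg.Lie Cfsg.Agent.Lib.Helper18 Cfsg.Agent.Lib.Helper61.ChevJ Matrix Cfsg.Agent.Lib.Helper35.BT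
open Classical

universe u

variable {D : ChevalleyDatum}

/-- the number of positive roots on which `y` is negative -/
noncomputable def negCount (Bd : BTData.{u} D) (y : Y D) : ℕ :=
  ((Finset.range D.nroots).filter (fun r => D.nroots / 2 ≤ r ∧ om Bd.X y r < 0)).card

/-- a fundamental reflection permutes the positive roots other than its own root -/
theorem refl_pos' (C : ChevData.{u} D) (i s : ℕ) (hi : i < D.rank) (hs : D.nroots / 2 ≤ s)
    (hs2 : s < D.nroots) (hne : s ≠ D.simple i) :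
    D.nroots / 2 ≤ D.reflectRoot i s ∧ D.reflectRoot i s ≠ D.simple i := by
  have hn := C.nroots_eq
  have hl := C.rank_eq
  have h1 := C.spec.refl_pos i (hl ▸ hi) s (hn ▸ hs) (hn ▸ hs2) (C.hsimple i hi ▸ hne)
  rw [hn, ← C.hsimple i hi, ← C.hrefl i hi s hs2] at h1
  exact h1

theorem negCount_lt (Bd : BTData.{u} D) (y : Y D) (i : Fin D.rank) (hi : y i < 0) :
    negCount Bd (sy i y) < negCount Bd y := by
  have hp : D.simple i < D.nroots := Bd.X.C.simple_lt i i.2
  have hp2 : D.nroots / 2 ≤ D.simple i := Bd.X.C.half_le_simple i i.2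
  have hσlt : ∀ s < D.nroots, D.reflectRoot i s < D.nroots := fun s hs => by
    rw [Bd.X.C.w_eq_reflectRoot i s i.2 hs]; exact Bd.X.C.w_lt i s i.2 hs
  have hσσ : ∀ s < D.nroots, D.reflectRoot i (D.reflectRoot i s) = s := fun s hs => by
    rw [Bd.X.C.w_eq_reflectRoot i s i.2 hs, Bd.X.C.w_eq_reflectRoot i _ i.2 (Bd.X.C.w_lt i s i.2 hs)]
    exact Bd.X.C.w_w i s i.2 hs
  have hnegp : D.neg (D.simple i) = D.reflectRoot i (D.simple i) := by
    rw [Bd.X.C.w_eq_reflectRoot i _ i.2 hp, Cfsg.Agent.Lib.Helper18.w_simple Bd.X.C i i.2,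
      Bd.X.C.neg_eq _ hp]
  have hnegp_lt : D.neg (D.simple i) < D.nroots := by rw [hnegp]; exact hσlt _ hp
  have hy'p : 0 < om Bd.X (sy i y) (D.simple i) := by
    have e : D.simple i = D.reflectRoot i (D.neg (D.simple i)) := by rw [hnegp, hσσ _ hp]
    rw [e, om_sy Bd i i.2 y _ hnegp_lt, om_neg_simple]
    linarith
  have hom : ∀ r < D.nroots, om Bd.X y (D.reflectRoot i r) = om Bd.X (sy i y) r := fun r hr => by
    have := om_sy Bd i i.2 y (D.reflectRoot i r) (hσlt r hr)
    rw [hσσ r hr] at this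
    exact this.symm
  unfold negCount
  set S' := (Finset.range D.nroots).filter (fun r => D.nroots / 2 ≤ r ∧ om Bd.X (sy i y) r < 0)
    with hS'
  set S := (Finset.range D.nroots).filter (fun r => D.nroots / 2 ≤ r ∧ om Bd.X y r < 0) with hS
  have hmem' : ∀ r, r ∈ S' ↔ r < D.nroots ∧ D.nroots / 2 ≤ r ∧ om Bd.X (sy i y) r < 0 := fun r => by
    rw [hS', Finset.mem_filter, Finset.mem_range]
  have hmem : ∀ r, r ∈ S ↔ r < D.nroots ∧ D.nroots / 2 ≤ r ∧ om Bd.X y r < 0 := fun r => by
    rw [hS, Finset.mem_filter, Finset.mem_range]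
  have hinj : Set.InjOn (fun s => D.reflectRoot i s) (S' : Set ℕ) := by
    intro a ha b hb hab
    have ha' := ((hmem' a).1 ha).1
    have hb' := ((hmem' b).1 hb).1
    have h1 : D.reflectRoot i (D.reflectRoot i a) = D.reflectRoot i (D.reflectRoot i b) :=
      congrArg (D.reflectRoot i) hab
    rwa [hσσ a ha', hσσ b hb'] at h1
  have hsub : S'.image (fun s => D.reflectRoot i s) ⊆ S.erase (D.simple i) := by
    intro t ht
    rw [Finset.mem_image] at ht
    obtain ⟨r, hr, rfl⟩ := ht
    obtain ⟨hr1, hr2, hr3⟩ := (hmem' r).1 hr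
    have hne : r ≠ D.simple i := by
      intro h
      rw [h] at hr3
      linarith
    obtain ⟨h1, h2⟩ := refl_pos' Bd.X.C i r i.2 hr2 hr1 hne
    rw [Finset.mem_erase]
    refine ⟨h2, (hmem _).2 ⟨hσlt r hr1, h1, ?_⟩⟩
    rw [hom r hr1]
    exact hr3
  have hpS : D.simple i ∈ S := (hmem _).2 ⟨hp, hp2, by rw [om_simple]; exact hi⟩
  calc S'.card = (S'.image (fun s => D.reflectRoot i s)).card :=
        (Finset.card_image_of_injOn hinj).symm
    _ ≤ (S.erase (D.simple i)).card := Finset.card_le_card hsub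
    _ < S.card := Finset.card_erase_lt_of_mem hpS

theorem exists_dom_aux (Bd : BTData.{u} D) :
    ∀ (n : ℕ) (y : Y D), negCount Bd y = n → ∃ ws : List ℕ, Dom (wy ws y) := by
  intro n
  induction n using Nat.strong_induction_on with
  | _ n ih =>
    intro y hn
    by_cases h : ∀ k, 0 ≤ y k
    · exact ⟨[], h⟩
    · push Not at h
      obtain ⟨i, hi⟩ := h
      have hlt := negCount_lt Bd y i hi
      obtain ⟨ws, hws⟩ := ih _ (hn ▸ hlt) (sy i y) rfl
      refine ⟨ws ++ [(i : ℕ)], ?_⟩
      have e : wy (ws ++ [(i : ℕ)]) y = wy ws (sy i y) := by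
        unfold wy
        rw [List.foldr_append]
        rfl
      rw [e]
      exact hws

end Cfsg.Agent.Lib.Helper7.BT
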