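/-
helper7: project BT (S2154, Borel–Tits; helper35's sheet), module BT-[FIL-W] in `_of` form:
`wt_nW_of`, `wt_nW_inv_of`, `fil_conj_of` take the [FIL-S] statements (`wt_sG`, `wt_sG_inv`) as hypotheses.
-/
import Cfsg.Agent.Lib.Helper35.BT.Defs

set_option autoImplicit false

namespace Cfsg.Agent.Lib.Helper7.BT

open Cfsg Cfsg.Lie Cfsg.Agent.Lib.Helper18 Cfsg.Agent.Lib.Helper61.ChevJ Matrix
open Cfsg.Agent.Lib.Helper35.BT

universe u

variable {D : ChevalleyDatum}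

section Mat

variable {F : Type u} [Field F]

theorem wt_nW_of (hD : D ∈ [chevG2, chevB2, chevD4, chevF4, chevE6, chevE7, chevE8]) (Bd : BTData.{u} D)
    (hS : ∀ (i : ℕ) (y : Y D) (a b : D.Idx),
      ((sG (F := F) hD Bd.X.C i : GL D.Idx F) : Matrix D.Idx D.Idx F) a b ≠ 0 →
        wt Bd.X (sy i y) a = wt Bd.X y b)
    (ws : List ℕ) (y : Y D) (a b : D.Idx)
    (h : ((nW (F := F) hD Bd.X.C ws : GL D.Idx F) : Matrix D.Idx D.Idx F) a b ≠ 0) :
    wt Bd.X (wy ws y) a = wt Bd.X y b := by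
  induction ws generalizing a b with
  | nil =>
    rw [nW_nil, Units.val_one] at h
    rw [wy_nil]
    by_cases hab : a = b
    · rw [hab]
    · exact absurd (Matrix.one_apply_ne hab) h
  | cons i ws ih =>
    rw [nW_cons, Units.val_mul, Matrix.mul_apply] at h
    obtain ⟨k, -, hk⟩ := Finset.exists_ne_zero_of_sum_ne_zero h
    rw [wy_cons, hS i (wy ws y) a k (left_ne_zero_of_mul hk)]
    exact ih k b (right_ne_zero_of_mul hk)

theorem wt_nW_inv_of (hD : D ∈ [chevG2, chevB2, chevD4, chevF4, chevE6, chevE7, chevE8]) (Bd : BTData.{u} D)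
    (hS : ∀ (i : ℕ) (y : Y D) (a b : D.Idx),
      (((sG (F := F) hD Bd.X.C i)⁻¹ : GL D.Idx F) : Matrix D.Idx D.Idx F) a b ≠ 0 →
        wt Bd.X y a = wt Bd.X (sy i y) b)
    (ws : List ℕ) (y : Y D) (a b : D.Idx)
    (h : (((nW (F := F) hD Bd.X.C ws)⁻¹ : GL D.Idx F) : Matrix D.Idx D.Idx F) a b ≠ 0) :
    wt Bd.X y a = wt Bd.X (wy ws y) b := by
  induction ws generalizing a b with
  | nil =>
    rw [nW_nil, inv_one, Units.val_one] at h
    rw [wy_nil]
    by_cases hab : a = b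
    · rw [hab]
    · exact absurd (Matrix.one_apply_ne hab) h
  | cons i ws ih =>
    rw [nW_cons, _root_.mul_inv_rev, Units.val_mul, Matrix.mul_apply] at h
    obtain ⟨k, -, hk⟩ := Finset.exists_ne_zero_of_sum_ne_zero h
    rw [wy_cons, ← hS i (wy ws y) k b (right_ne_zero_of_mul hk)]
    exact ih a k (left_ne_zero_of_mul hk)

theorem fil_conj_of (hD : D ∈ [chevG2, chevB2, chevD4, chevF4, chevE6, chevE7, chevE8]) (Bd : BTData.{u} D)
    (hS : ∀ (i : ℕ) (y : Y D) (a b : D.Idx),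
      ((sG (F := F) hD Bd.X.C i : GL D.Idx F) : Matrix D.Idx D.Idx F) a b ≠ 0 →
        wt Bd.X (sy i y) a = wt Bd.X y b)
    (hS' : ∀ (i : ℕ) (y : Y D) (a b : D.Idx),
      (((sG (F := F) hD Bd.X.C i)⁻¹ : GL D.Idx F) : Matrix D.Idx D.Idx F) a b ≠ 0 →
        wt Bd.X y a = wt Bd.X (sy i y) b)
    (ws : List ℕ) (y : Y D) (c : ℝ) (M : Matrix D.Idx D.Idx F) (h : Fil Bd.X y c M) :
    Fil Bd.X (wy ws y) c
      (((nW (F := F) hD Bd.X.C ws : GL D.Idx F) : Matrix D.Idx D.Idx F) * M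
        * (((nW (F := F) hD Bd.X.C ws)⁻¹ : GL D.Idx F) : Matrix D.Idx D.Idx F)) := by
  intro a b hab
  rw [Matrix.mul_apply] at hab
  obtain ⟨d, -, hd⟩ := Finset.exists_ne_zero_of_sum_ne_zero hab
  have h1 := left_ne_zero_of_mul hd
  have h2 := right_ne_zero_of_mul hd
  rw [Matrix.mul_apply] at h1
  obtain ⟨k, -, hk⟩ := Finset.exists_ne_zero_of_sum_ne_zero h1
  have e1 := wt_nW_of hD Bd hS ws y a k (left_ne_zero_of_mul hk)
  have e2 := wt_nW_inv_of hD Bd hS' ws y d b h2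
  have e3 := h k d (right_ne_zero_of_mul hk)
  rw [e1, ← e2]
  exact e3

end Mat

end Cfsg.Agent.Lib.Helper7.BT
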