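/-
helper7: project BT (S2154, Borel–Tits; helper35's sheet), module BT-[ROOT-B]:
the official names `om_nonneg`, `om_pos`, `om_eq_zero`, `one_le_om_rho` are provided by helper34's
`Lib/Helper34/BT/RootBExact.lean` (landed first; imported here, so importing this file still gives them, without a
name clash); this file keeps my proofs under `Cfsg.Agent.Lib.Helper7.BT` (`om_nonneg_h7`, ...) and the aux lemmas.
-/
import Cfsg.Agent.Lib.Helper35.BT.Defs
import Cfsg.Agent.Lib.Helper34.BT.RootBExact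

set_option autoImplicit false

namespace Cfsg.Agent.Lib.Helper7.BT

open Cfsg Cfsg.Lie Cfsg.Agent.Lib.Helper18 Cfsg.Agent.Lib.Helper61.ChevJ Matrix Cfsg.Agent.Lib.Helper35.BT

universe u

variable {D : ChevalleyDatum}

/-- the coefficients of a positive root at the fundamental roots are non-negative -/
theorem rc_nonneg (X : JData.{u} D) (r : ℕ) (hr : D.IsPosRoot r) (k : ℕ) (hk : k < D.rank) :
    0 ≤ rcAt X.rcT X.C.T.rank r k := by
  have hn := X.C.nroots_eq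
  have hl := X.C.rank_eq
  have hs := rcSignOK_spec X.C.T X.rcT X.hsign r (hn.symm ▸ hr.1) k (hl.symm ▸ hk)
  rcases (X.coroot_nonneg r hr k hk).lt_or_eq with h | h
  · exact le_of_lt (hs.2.mpr h)
  · exact le_of_eq (hs.1.mpr h.symm).symm

/-- a positive root outside `Φ_J` has a positive coefficient at a fundamental root outside `J` -/
theorem exists_rc_pos (X : JData.{u} D) (J : Set ℕ) (r : ℕ) (hr : D.IsPosRoot r)
    (hnot : ¬ D.InRootSub J r) : ∃ k : Fin D.rank, (k : ℕ) ∉ J ∧ 1 ≤ rcAt X.rcT X.C.T.rank r k := by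
  have hn := X.C.nroots_eq
  have hl := X.C.rank_eq
  rw [X.inRootSub_iff] at hnot
  push Not at hnot
  obtain ⟨k, hk, hkJ, hne⟩ := hnot hr.1
  refine ⟨⟨k, hk⟩, hkJ, ?_⟩
  show 1 ≤ rcAt X.rcT X.C.T.rank r k
  have hs := rcSignOK_spec X.C.T X.rcT X.hsign r (hn.symm ▸ hr.1) k (hl.symm ▸ hk)
  rcases (rc_nonneg X r hr k hk).lt_or_eq with h | h
  · omega
  · exact absurd (hs.1.mp h.symm) hne

theorem mem_Jof_iff (y : Y D) (k : Fin D.rank) : (k : ℕ) ∈ Jof y ↔ y k = 0 := by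
  constructor
  · rintro ⟨h, hy⟩
    exact hy
  · intro h
    exact ⟨k.2, h⟩

end Cfsg.Agent.Lib.Helper7.BT

namespace Cfsg.Agent.Lib.Helper7.BT

open Cfsg Cfsg.Lie Cfsg.Agent.Lib.Helper18 Cfsg.Agent.Lib.Helper61.ChevJ Matrix Cfsg.Agent.Lib.Helper35.BT

universe u

variable {D : ChevalleyDatum}

theorem om_nonneg_h7 (X : JData.{u} D) (y : Y D) (hy : Dom y) (r : ℕ) (hr : D.IsPosRoot r) : 0 ≤ om X y r := by
  unfold om rv
  apply Finset.sum_nonneg
  intro k _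
  exact mul_nonneg (by exact_mod_cast Cfsg.Agent.Lib.Helper7.BT.rc_nonneg X r hr k k.2) (hy k)

theorem om_pos_h7 (X : JData.{u} D) (y : Y D) (hy : Dom y) (r : ℕ) (hr : D.IsPosRoot r)
    (hnot : ¬ D.InRootSub (Jof y) r) : 0 < om X y r := by
  obtain ⟨k, hkJ, h1⟩ := Cfsg.Agent.Lib.Helper7.BT.exists_rc_pos X (Jof y) r hr hnot
  unfold om rv
  apply Finset.sum_pos'
  · intro j _
    exact mul_nonneg (by exact_mod_cast Cfsg.Agent.Lib.Helper7.BT.rc_nonneg X r hr j j.2) (hy j)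
  · refine ⟨k, Finset.mem_univ _, ?_⟩
    have hyk : y k ≠ 0 := fun h => hkJ ((Cfsg.Agent.Lib.Helper7.BT.mem_Jof_iff y k).2 h)
    have hpos : 0 < y k := lt_of_le_of_ne (hy _) (Ne.symm hyk)
    have h1' : (0 : ℝ) < ((rcAt X.rcT X.C.T.rank r k : ℤ) : ℝ) := by
      have : (0 : ℤ) < rcAt X.rcT X.C.T.rank r k := by omega
      exact_mod_cast this
    exact mul_pos h1' hpos

theorem om_eq_zero_h7 (X : JData.{u} D) (y : Y D) (r : ℕ) (hr : D.InRootSub (Jof y) r) : om X y r = 0 := by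
  obtain ⟨hr1, hr2⟩ := (X.inRootSub_iff (Jof y) r).mp hr
  have hn := X.C.nroots_eq
  have hl := X.C.rank_eq
  unfold om rv
  apply Finset.sum_eq_zero
  intro k _
  by_cases hk : (k : ℕ) ∈ Jof y
  · rw [(Cfsg.Agent.Lib.Helper7.BT.mem_Jof_iff y k).1 hk, mul_zero]
  · have h0 : rcAt X.rcT X.C.T.rank r k = 0 :=
      ((rcSignOK_spec X.C.T X.rcT X.hsign r (hn.symm ▸ hr1) k (hl.symm ▸ k.2)).1).mpr (hr2 k k.2 hk)
    rw [h0]; simp

theorem one_le_om_rho_h7 (X : JData.{u} D) (r : ℕ) (hr : D.IsPosRoot r) : 1 ≤ om X (fun _ => (1 : ℝ)) r := by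
  have hnot : ¬ D.InRootSub (∅ : Set ℕ) r := by
    intro h
    obtain ⟨ws, j, -, -, hj, -⟩ := X.exists_jword ∅ r h
    exact hj
  obtain ⟨k, -, h1⟩ := Cfsg.Agent.Lib.Helper7.BT.exists_rc_pos X ∅ r hr hnot
  unfold om rv
  have h2 := Finset.single_le_sum (f := fun j : Fin D.rank => ((rcAt X.rcT X.C.T.rank r j : ℤ) : ℝ) * 1)
      (fun j _ => mul_nonneg (by exact_mod_cast Cfsg.Agent.Lib.Helper7.BT.rc_nonneg X r hr j j.2)
        zero_le_one) (Finset.mem_univ k)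
  have h3 : (1 : ℝ) ≤ ((rcAt X.rcT X.C.T.rank r k : ℤ) : ℝ) := by exact_mod_cast h1
  simp only [mul_one] at h2 ⊢
  exact h3.trans h2

end Cfsg.Agent.Lib.Helper7.BT
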